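import Cfsg.Agent.LieP.Gen
import Cfsg.Agent.Solv.CoprimeGen
import Mathlib.GroupTheory.SpecificGroups.ZGroup
import Mathlib.RingTheory.ZMod.UnitsCyclic

set_option autoImplicit false
set_option linter.unusedSectionVars false
set_option linter.unusedVariables false

namespace Cfsg.Lib.LieP

open Subgroup

namespace Frat

/-- A nontrivial element of a `p`-subgroup has a power of order `p`. -/
theorem exists_pow_prime {A : Type*} [Group A] [Finite A] {p : ℕ} (hp : p.Prime) {P : Subgroup A}
    (hP : IsPGroup p P) {x : A} (hx : x ∈ P) (h1 : x ≠ 1) : ∃ k : ℕ, orderOf (x ^ k) = p := by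
  have := Fact.mk hp
  obtain ⟨k, hk⟩ := IsPGroup.iff_orderOf.mp hP ⟨x, hx⟩
  rw [← Subgroup.orderOf_coe] at hk
  have hk' : orderOf x = p ^ k := hk
  have hk0 : k ≠ 0 := by
    rintro rfl
    exact h1 (orderOf_eq_one_iff.mp (by simpa using hk'))
  refine ⟨orderOf x / p, orderOf_pow_orderOf_div (orderOf_pos x).ne' ?_⟩
  rw [hk']; exact dvd_pow_self p hk0

theorem adj_of_cent {A : Type*} [Group A] [Finite A] {l s : ℕ} (hl : l.Prime) (hs : s.Prime)
    (hls : s ≠ l) {Q : Subgroup A} (hQ : IsPGroup s Q) {c x : A} (hc : orderOf c = l)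
    (hx : x ∈ Q) (h1 : x ≠ 1) (h : Commute c x) : Adj A l s := by
  obtain ⟨k, hk⟩ := exists_pow_prime hs hQ hx h1
  exact adj_of_commute (h.pow_right k) hc hk ((Nat.coprime_primes hl hs).mpr hls.symm)

/-- The Frattini argument. -/
theorem exists_Q {A X : Type*} [Group A] [Finite A] [Group X] (f : A →* X)
    (hf : Function.Surjective f) {s : ℕ} (hs : s.Prime) (hd : s ∣ Nat.card f.ker) :
    ∃ Q : Subgroup A, IsPGroup s Q ∧ Q ≠ ⊥ ∧ (¬ NCy s f.ker → IsCyclic Q) ∧
      Function.Surjective (f.comp (normalizer (Q : Set A)).subtype) := by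
  have := Fact.mk hs
  obtain ⟨P⟩ : Nonempty (Sylow s f.ker) := inferInstance
  have e : (P : Subgroup f.ker) ≃* (P : Subgroup f.ker).map f.ker.subtype :=
    (P : Subgroup f.ker).equivMapOfInjective _ f.ker.subtype_injective
  refine ⟨(P : Subgroup f.ker).map f.ker.subtype, P.2.map _, ?_, fun hc => ?_, fun x => ?_⟩
  · intro h
    have h1 := P.dvd_card_of_dvd_card hd
    rw [Nat.card_congr e.toEquiv, h, Subgroup.card_bot] at h1
    exact hs.one_lt.ne' (Nat.dvd_one.mp h1)
  · have : IsCyclic (P : Subgroup f.ker) := by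
      by_contra h
      exact hc ⟨P, P.2, h⟩
    exact isCyclic_of_surjective e e.surjective
  · obtain ⟨a, rfl⟩ := hf x
    have ha : a ∈ normalizer (((P : Subgroup f.ker).map f.ker.subtype : Subgroup A) : Set A) ⊔
        f.ker := by
      rw [P.normalizer_sup_eq_top]; trivial
    obtain ⟨n, hn, k, hk, rfl⟩ := mem_sup_of_normal_right.mp ha
    refine ⟨⟨n, hn⟩, ?_⟩
    rw [map_mul, (MonoidHom.mem_ker.mp hk), mul_one]
    rfl

/-- An element of the kernel of the action on `Q` centralises `Q`. -/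
theorem commute_of_ker {A : Type*} [Group A] {Q : Subgroup A} {c : normalizer (Q : Set A)}
    (hc : c ∈ Q.normalizerMonoidHom.ker) {x : A} (hx : x ∈ Q) : Commute (c : A) x := by
  rw [normalizerMonoidHom_ker, mem_subgroupOf, mem_centralizer_iff] at hc
  exact (hc x hx).symm

end Frat

open Frat

section frattini

variable {A X : Type*} [Group A] [Finite A] [Group X] (f : A →* X) (hf : Function.Surjective f)
  {l s : ℕ} (hl : l.Prime) (hs : s.Prime) (hls : s ≠ l) (hd : s ∣ Nat.card f.ker)
include hf hl hs hls hd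

theorem adj_of_ncy_odd (h2 : l ≠ 2) (h : NCy l X) : Adj A l s := by
  have := Fact.mk hl
  have := Fact.mk hs
  obtain ⟨Q, hQ, hQ1, -, hN⟩ := exists_Q f hf hs hd
  obtain ⟨a, b, hab, ha, hb, hn⟩ := (h.of_surj hl _ hN).exists_pair hl h2
  have hab' : Commute (a : A) (b : A) := by
    have := congrArg Subtype.val hab.eq
    simpa [Commute, SemiconjBy] using this
  have ha' : orderOf (a : A) = l := by rw [Subgroup.orderOf_coe, ha]
  have hb' : orderOf (b : A) = l := by rw [Subgroup.orderOf_coe, hb]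
  have hn' : (b : A) ∉ zpowers (a : A) := by
    rintro ⟨k, hk⟩
    exact hn ⟨k, Subtype.ext (by simpa using hk)⟩
  set E : Subgroup A := closure {(a : A), (b : A)} with hE
  have hcomm : IsMulCommutative E := by
    refine isMulCommutative_closure ?_
    rintro x (rfl | rfl) y (rfl | rfl)
    · rfl
    · exact hab'.eq
    · exact hab'.symm.eq
    · rfl
  have hpow : ∀ g ∈ E, g ^ l = 1 := by
    intro g hg
    induction hg using closure_induction with
    | mem x hx =>
      rcases hx with rfl | rfl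
      · rw [← ha', pow_orderOf_eq_one]
      · rw [← hb', pow_orderOf_eq_one]
    | one => exact one_pow l
    | mul x y hx hy ihx ihy =>
      have hxy : Commute x y := setLike_mul_comm (s := E) hx hy
      rw [hxy.mul_pow, ihx, ihy, mul_one]
    | inv x hx ih => rw [inv_pow, ih, inv_one]
  have hEp : IsPGroup l E := fun g => ⟨1, Subtype.ext (by simpa using hpow g g.2)⟩
  have haE : (a : A) ∈ E := subset_closure (by simp)
  have hbE : (b : A) ∈ E := subset_closure (by simp)
  have hnc : ¬ IsCyclic E := by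
    intro hc
    obtain ⟨g, hg⟩ := hc.exists_ofOrder_eq_natCard
    have h1 : Nat.card E ∣ l := by
      rw [← hg]
      exact orderOf_dvd_of_pow_eq_one (Subtype.ext (by simpa using hpow g g.2))
    have h3 : zpowers (a : A) = E := by
      refine eq_of_le_of_card_ge (zpowers_le.mpr haE) ?_
      rw [Nat.card_zpowers, ha']
      exact Nat.le_of_dvd hl.pos h1
    exact hn' (h3 ▸ hbE)
  have hEN : E ≤ normalizer (Q : Set A) := by
    rw [hE, closure_le]
    rintro x (rfl | rfl)
    · exact a.2
    · exact b.2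
  have hcop : (Nat.card E).Coprime (Nat.card Q) :=
    IsPGroup.coprime_card_of_ne l s hls.symm E Q hEp hQ
  by_contra hcon
  refine hQ1 (le_bot_iff.mp
    (Cfsg.Lib.Solv.Coprime.le_of_forall_centralizer_singleton hnc hEN hcop fun c hc hc1 x hx => ?_))
  by_contra hx1
  refine hcon (adj_of_cent hl hs hls hQ (orderOf_eq_prime (hpow c hc) hc1) hx.1 hx1 ?_)
  exact mem_centralizer_singleton_iff.mp hx.2 |>.symm

theorem adj_of_ncy_cyc (h2 : s ≠ 2) (h : NCy l X) (hc : ¬ NCy s f.ker) : Adj A l s := by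
  have := Fact.mk hl
  have := Fact.mk hs
  obtain ⟨Q, hQ, hQ1, hcy, hN⟩ := exists_Q f hf hs hd
  have hcy := hcy hc
  obtain ⟨R, hR, hRc⟩ := h.of_surj hl _ hN
  obtain ⟨k, hk⟩ := hQ.exists_card_eq
  have hA : IsCyclic (MulAut Q) := by
    have h1 : IsCyclic (ZMod (Nat.card Q))ˣ := hk ▸ ZMod.isCyclic_units_of_prime_pow s hs h2 k
    exact isCyclic_of_injective (IsCyclic.mulAutMulEquiv Q).toMonoidHom
      (IsCyclic.mulAutMulEquiv Q).injective
  have hni : (Q.normalizerMonoidHom.comp R.subtype).ker ≠ ⊥ := fun hb =>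
    hRc (isCyclic_of_injective _ ((MonoidHom.ker_eq_bot_iff _).mp hb))
  obtain ⟨⟨c, hc⟩, hc1⟩ := ne_bot_iff_exists_ne_one.mp hni
  have hc1' : (c : normalizer (Q : Set A)) ≠ 1 := fun h => hc1 (Subtype.ext (Subtype.ext h))
  obtain ⟨m, hm⟩ := exists_pow_prime hl hR c.2 hc1'
  obtain ⟨⟨x, hx⟩, hx1⟩ := ne_bot_iff_exists_ne_one.mp hQ1
  have hker : (c : normalizer (Q : Set A)) ^ m ∈ Q.normalizerMonoidHom.ker :=
    pow_mem (show (c : normalizer (Q : Set A)) ∈ Q.normalizerMonoidHom.ker from hc) m
  exact adj_of_cent hl hs hls hQ (by rw [Subgroup.orderOf_coe, hm]) hx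
    (fun h => hx1 (Subtype.ext h)) (commute_of_ker hker hx)

theorem adj_of_comm_cyc (h : l ∣ Nat.card (commutator X)) (hc : ¬ NCy s f.ker) : Adj A l s := by
  have := Fact.mk hl
  obtain ⟨Q, hQ, hQ1, hcy, hN⟩ := exists_Q f hf hs hd
  have hcy := hcy hc
  let _ := (hcy.mulAutMulEquiv _).toMonoidHom.commGroupOfInjective (hcy.mulAutMulEquiv _).injective
  have h1 := Abelianization.commutator_subset_ker Q.normalizerMonoidHom
  have h3 : l ∣ Nat.card (commutator (normalizer (Q : Set A))) := by
    refine h.trans ?_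
    have h4 := card_map_dvd (H := commutator (normalizer (Q : Set A)))
      (f.comp (normalizer (Q : Set A)).subtype)
    rwa [map_commutator_eq, MonoidHom.range_eq_top.mpr hN, ← commutator_def] at h4
  obtain ⟨c, hcl⟩ := exists_prime_orderOf_dvd_card' l h3
  obtain ⟨⟨x, hx⟩, hx1⟩ := ne_bot_iff_exists_ne_one.mp hQ1
  exact adj_of_cent hl hs hls hQ (by rw [Subgroup.orderOf_coe, Subgroup.orderOf_coe, hcl]) hx
    (fun h => hx1 (Subtype.ext h)) (commute_of_ker (h1 c.2) hx)

omit hs hls hd in
theorem ncy_of_perfect (hp : ⁅f.ker, f.ker⁆ = f.ker) (h1 : l ∣ Nat.card f.ker)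
    (h2 : l ∣ Nat.card X) : NCy l A := by
  have := Fact.mk hl
  have : Finite X := Finite.of_surjective f hf
  obtain ⟨P⟩ : Nonempty (Sylow l A) := inferInstance
  by_contra hcon
  have hP : IsCyclic (P : Subgroup A) := by
    by_contra h
    exact hcon ⟨P, P.2, h⟩
  set B : Subgroup A := ((P : Subgroup A).map f).comap f with hB
  have hPB : (P : Subgroup A) ≤ B := le_comap_map f _
  have hKB : f.ker ≤ B := ker_le_comap f _
  have hP' : IsCyclic (P.subtype hPB : Subgroup B) :=
    isCyclic_of_surjective _ (subgroupOfEquivOfLe hPB).symm.surjective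
  have hr : (f.comp B.subtype).range = (P : Subgroup A).map f := by
    rw [MonoidHom.range_comp, range_subtype, hB, map_comap_eq_self_of_surjective hf]
  have hcy : IsCyclic ((P : Subgroup A).map f) :=
    isCyclic_of_surjective (f.subgroupMap _) (f.subgroupMap_surjective _)
  rcases (P.subtype hPB).not_dvd_card_commutator_or_not_dvd_index_commutator with h | h
  · apply h
    rw [← card_map_of_injective B.subtype_injective, map_subtype_commutator]
    refine h1.trans (card_dvd_of_le ?_)
    rw [← hp]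
    exact commutator_mono hKB hKB
  · apply h
    have h3 : commutator B ≤ (f.comp B.subtype).ker := by
      rw [← Subgroup.map_eq_bot_iff, map_commutator_eq, hr, commutator_eq_bot_iff_le_centralizer]
      exact le_centralizer _
    refine dvd_trans ?_ (index_dvd_of_le h3)
    rw [index_ker, hr]
    exact (P.mapSurjective hf).dvd_card_of_dvd_card h2

end frattini

open scoped IsMulCommutative in
theorem exists_odd_dvd_commutator {X : Type*} [Group X] [Finite X] (h : ¬ IsCyclic X)
    (hz : ∀ l : ℕ, l.Prime → ¬ NCy l X) :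
    ∃ l : ℕ, l.Prime ∧ l ≠ 2 ∧ l ∣ Nat.card (commutator X) := by
  have hZ : IsZGroup X := ⟨fun p hp P => by
    by_contra hc
    exact hz p hp ⟨P, P.2, hc⟩⟩
  have h1 : Nat.card (commutator X) ≠ 1 := by
    intro h1
    rw [card_eq_one, commutator_eq_bot_iff_center_eq_top] at h1
    let _ : CommGroup X := Group.commGroupOfCenterEqTop h1
    exact h inferInstance
  obtain ⟨l, hl, hd⟩ := Nat.exists_prime_and_dvd h1
  refine ⟨l, hl, ?_, hd⟩
  rintro rfl
  have := Fact.mk hl
  have h2 : 2 ∣ Nat.card X := hd.trans (card_subgroup_dvd_card _)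
  have hm : (Nat.card X).minFac = 2 := (Nat.minFac_eq_two_iff _).mpr h2
  obtain ⟨P⟩ : Nonempty (Sylow 2 X) := inferInstance
  have hP : IsCyclic P := hZ.isZGroup 2 hl P
  have hN := hP.normalizer_le_centralizer hm
  exact MonoidHom.not_dvd_card_ker_transferSylow P hN
    (hd.trans (card_dvd_of_le (Abelianization.commutator_subset_ker _)))

end Cfsg.Lib.LieP
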