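import Cfsg.Agent.LieP.Frat

/-!
# A dominating prime for non-cyclic groups of outer automorphisms
-/

set_option autoImplicit false
set_option linter.unusedSectionVars false
set_option linter.unusedVariables false

namespace Cfsg.Lib.LieP

open Subgroup
open scoped commutatorElement

namespace Main2Aux

variable {G : Type*} [Group G]

theorem center_bot [IsSimpleGroup G] (hc : ¬ IsMulCommutative G) : center G = ⊥ := by
  rcases (inferInstance : (center G).Normal).eq_bot_or_eq_top with h | h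
  · exact h
  · exfalso
    apply hc
    refine ⟨⟨fun a b => ?_⟩⟩
    have hb : b ∈ center G := by rw [h]; trivial
    exact mem_center_iff.1 hb a

theorem comm_top [IsSimpleGroup G] (hc : ¬ IsMulCommutative G) :
    ⁅(⊤ : Subgroup G), (⊤ : Subgroup G)⁆ = ⊤ := by
  rcases (inferInstance : (commutator G).Normal).eq_bot_or_eq_top with h | h
  · exfalso
    apply hc
    refine ⟨⟨fun a b => ?_⟩⟩
    have hm : ⁅a, b⁆ ∈ commutator G := commutator_mem_commutator (mem_top a) (mem_top b)
    rw [h, mem_bot] at hm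
    exact commutatorElement_eq_one_iff_mul_comm.1 hm
  · exact h

/-- The projection of a group of automorphisms onto its outer part. -/
def proj (H : Subgroup (MulAut G)) : H →* bar H :=
  (QuotientGroup.mk' (Inn G)).subgroupMap H

theorem proj_eq_1' : type_of% @proj.eq_1 := @proj.eq_1

theorem proj_surj (H : Subgroup (MulAut G)) : Function.Surjective (proj H) :=
  MonoidHom.subgroupMap_surjective _ _

theorem mem_ker_proj {H : Subgroup (MulAut G)} (x : H) : x ∈ (proj H).ker ↔ (x : MulAut G) ∈ Inn G := by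
  rw [MonoidHom.mem_ker, ← QuotientGroup.eq_one_iff]
  constructor
  · intro h
    exact congrArg Subtype.val h
  · intro h
    exact Subtype.ext h

/-- Conjugation, as a map into the group of automorphisms. -/
def cj {H : Subgroup (MulAut G)} (hH : Inn G ≤ H) : G →* H :=
  (MulAut.conj : G →* MulAut G).codRestrict H (fun g => hH ⟨g, rfl⟩)

theorem cj_eq_1' : type_of% @cj.eq_1 := @cj.eq_1

theorem cj_inj {H : Subgroup (MulAut G)} (hH : Inn G ≤ H) (hZ : center G = ⊥) :
    Function.Injective (cj hH) := by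
  rw [injective_iff_map_eq_one]
  intro g hg
  have h1 : MulAut.conj g = 1 := congrArg Subtype.val hg
  have : g ∈ center G := by
    rw [mem_center_iff]
    intro x
    have h2 : MulAut.conj g x = x := by rw [h1]; rfl
    rw [MulAut.conj_apply] at h2
    calc x * g = (g * x * g⁻¹) * g := by rw [h2]
      _ = g * x := by group
  rwa [hZ, mem_bot] at this

theorem range_cj {H : Subgroup (MulAut G)} (hH : Inn G ≤ H) : (cj hH).range = (proj H).ker := by
  ext x
  rw [mem_ker_proj]
  constructor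
  · rintro ⟨g, rfl⟩
    exact ⟨g, rfl⟩
  · rintro ⟨g, hg⟩
    exact ⟨g, Subtype.ext hg⟩

theorem nonempty_ker {H : Subgroup (MulAut G)} (hH : Inn G ≤ H) (hZ : center G = ⊥) :
    Nonempty (G ≃* (proj H).ker) :=
  ⟨(MonoidHom.ofInjective (cj_inj hH hZ)).trans (MulEquiv.subgroupCongr (range_cj hH))⟩

theorem ker_perfect [IsSimpleGroup G] (hc : ¬ IsMulCommutative G) {H : Subgroup (MulAut G)}
    (hH : Inn G ≤ H) : ⁅(proj H).ker, (proj H).ker⁆ = (proj H).ker := by
  rw [← range_cj hH, MonoidHom.range_eq_map, ← map_commutator, comm_top hc]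

theorem dvd_comm_of_sub {O : Type*} [Group O] [Finite O] (K : Subgroup O) {l : ℕ}
    (h : l ∣ Nat.card (commutator K)) : l ∣ Nat.card (commutator O) := by
  have h1 : (commutator K).map K.subtype ≤ commutator O := by
    rw [commutator_def, commutator_def, map_commutator]
    exact commutator_mono le_top le_top
  have h2 : Nat.card ((commutator K).map K.subtype) = Nat.card (commutator K) :=
    (Nat.card_congr (equivMapOfInjective _ _ K.subtype_injective).toEquiv).symm
  rw [← h2] at h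
  exact h.trans (card_dvd_of_le h1)

end Main2Aux

open Main2Aux

theorem main2 {G : Type*} [Group G] [Finite G] [IsSimpleGroup G] (hc : ¬ IsMulCommutative G)
    (h2 : 2 ∣ Nat.card G) {r n : ℕ} (hr : r.Prime) {π : ℕ → Prop} (h : Prof r n π G)
    (h' : Prof2 r n G) {H : Subgroup (MulAut G)} (hH : Inn G ≤ H) (hn : ¬ IsCyclic (bar H)) :
    Dom H := by
  have hZ : center G = ⊥ := center_bot hc
  obtain ⟨e⟩ := nonempty_ker hH hZ
  have hker : Nat.card (proj H).ker = Nat.card G := (Nat.card_congr e.toEquiv).symm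
  have hsurj := proj_surj H
  have hcy : ∀ s : ℕ, ¬ NCy s G → ¬ NCy s (proj H).ker := fun s hs hs' =>
    hs (NCy.of_inj e.symm.toMonoidHom e.symm.injective hs')
  -- primes dividing only the outer part
  have common : ∀ l s : ℕ, l.Prime → s.Prime → s ≠ l → (l = 2 ∨ l ∣ n) → s ∣ Nat.card H →
      ¬ s ∣ Nat.card G → Adj H l s := by
    intro l s hl hs hsl hl' hsH hsG
    rw [card_eq_mul hZ hH] at hsH
    have hsb : s ∣ Nat.card (bar H) := ((Nat.Prime.dvd_mul hs).1 hsH).resolve_left hsG
    have hsn : ¬ s ∣ n := fun hd => hsG (h.n_dvd s hs hd)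
    have hs2 : s ≠ 2 := fun hd => hsG (hd ▸ h2)
    have hπ : l = 2 ∨ l = r ∨ π l := by
      by_cases hl2 : l = 2
      · exact Or.inl hl2
      · by_cases hlr : l = r
        · exact Or.inr (Or.inl hlr)
        · exact Or.inr (Or.inr (h.mem_π l hl hl2 hlr (Or.inr (hl'.resolve_left hl2))))
    exact (Fld.adj h.fld h.good hZ hH hs hs2 hsn hsb hl hsl.symm hπ).symm
  have hsq : ∀ l : ℕ, l.Prime → NCy l (bar H) → l ∣ Nat.card (bar H) := fun l hl hN =>
    (dvd_pow_self l two_ne_zero).trans (NCy.sq_dvd hl hN)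
  by_cases c1 : ∃ l : ℕ, l.Prime ∧ l ≠ 2 ∧ NCy l (bar H)
  · obtain ⟨l, hl, hl2, hN⟩ := c1
    have hln : l ∣ n := by
      by_contra hln
      obtain ⟨P, hP, hPc⟩ := NCy.of_inj (bar H).subtype (bar H).subtype_injective hN
      exact hPc ((h.good.2 l hl hln).1 P hP)
    refine ⟨l, hl, hsq l hl hN, Or.inl ⟨hl2, NCy.of_surj hl (proj H) hsurj hN⟩, ?_⟩
    intro s hs hsH hsl
    by_cases hsG : s ∣ Nat.card G
    · exact adj_of_ncy_odd (proj H) hsurj hl hs hsl (hker ▸ hsG) hl2 hN
    · exact common l s hl hs hsl (Or.inr hln) hsH hsG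
  by_cases c2 : NCy 2 (bar H)
  · refine ⟨2, Nat.prime_two, hsq 2 Nat.prime_two c2, Or.inr ⟨rfl, c2⟩, ?_⟩
    intro s hs hsH hs2
    by_cases hsG : s ∣ Nat.card G
    · by_cases hN : NCy s G
      · exact h'.rk2 H hH c2 s hs hs2 hN
      · exact adj_of_ncy_cyc (proj H) hsurj Nat.prime_two hs hs2 (hker ▸ hsG) hs2 c2 (hcy s hN)
    · exact common 2 s Nat.prime_two hs hs2 (Or.inl rfl) hsH hsG
  have hz : ∀ l : ℕ, l.Prime → ¬ NCy l (bar H) := by
    intro l hl hN
    by_cases hl2 : l = 2
    · exact c2 (hl2 ▸ hN)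
    · exact c1 ⟨l, hl, hl2, hN⟩
  obtain ⟨l, hl, hl2, hlc⟩ := exists_odd_dvd_commutator hn hz
  have hln : l ∣ n := by
    by_contra hln
    exact (h.good.2 l hl hln).2 (dvd_comm_of_sub (bar H) hlc)
  have hlG : l ∣ Nat.card G := h.n_dvd l hl hln
  have hlb : l ∣ Nat.card (bar H) := hlc.trans (card_subgroup_dvd_card _)
  refine ⟨l, hl, hlb, Or.inl ⟨hl2,
    ncy_of_perfect (proj H) hsurj hl (ker_perfect hc hH) (hker ▸ hlG) hlb⟩, ?_⟩
  intro s hs hsH hsl
  by_cases hsG : s ∣ Nat.card G
  swap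
  · exact common l s hl hs hsl (Or.inr hln) hsH hsG
  by_cases a1 : l ≠ r ∧ (s = r ∨ s < l)
  · exact h.small H hH l s hl hs hl2 a1.1 hsl (Or.inr ⟨hln, hlb⟩) a1.2
  by_cases a2 : s = 2
  · subst a2
    have hlr : l = r := by
      by_contra hlr
      exact a1 ⟨hlr, Or.inr (lt_of_le_of_ne hl.two_le (Ne.symm hl2))⟩
    subst hlr
    rcases h.two hl2 with h3 | h3
    · exact (Adj.inn hZ hH h3).symm
    · exact absurd hln h3.2
  have hsr : s ≠ r := by
    intro hsr
    by_cases hlr : l = r
    · exact hsl (hsr.trans hlr.symm)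
    · exact a1 ⟨hlr, Or.inl hsr⟩
  have hls : l = r ∨ l < s := by
    by_cases hlr : l = r
    · exact Or.inl hlr
    · right
      by_contra hlt
      exact a1 ⟨hlr, Or.inr (lt_of_le_of_ne (not_lt.1 hlt) hsl)⟩
  by_cases hN : NCy s G
  · exact (Adj.inn hZ hH (h'.rk s l hs hl a2 hsr hl2 hsl.symm hN hln hls)).symm
  · exact adj_of_comm_cyc (proj H) hsurj hl hs hsl (hker ▸ hsG) hlc (hcy s hN)

end Cfsg.Lib.LieP
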