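import Cfsg.Agent.LieP.Gen
import Cfsg.Agent.Solv.CoprimeGen
import Cfsg.Agent.Solv.UniqueInvol
import Mathlib.GroupTheory.Transfer

/-!
# Reduction of the prime graph statement to the almost simple case
-/

set_option autoImplicit false
set_option linter.unusedSectionVars false
set_option linter.unusedVariables false

namespace Cfsg.Lib.LieP

open Subgroup

namespace Red

variable {G : Type*} [Group G]

/-- The action of `G` on the section `H / K`. -/
theorem exists_act (K H : Subgroup G) [K.Normal] [H.Normal] :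
    ∃ α : G →* MulAut (H ⧸ K.subgroupOf H), ∀ (g : G) (h : H),
      α g (QuotientGroup.mk h) = QuotientGroup.mk (MulAut.conjNormal g h) := by
  have key : ∀ g : G, (K.subgroupOf H).map (MulAut.conjNormal g : MulAut H) = K.subgroupOf H := by
    intro g
    ext x
    constructor
    · rintro ⟨y, hy, rfl⟩
      exact ‹K.Normal›.conj_mem _ hy g
    · intro hx
      refine ⟨MulAut.conjNormal g⁻¹ x, ‹K.Normal›.conj_mem _ hx g⁻¹, ?_⟩
      ext
      simp
  refine ⟨MonoidHom.mk' (fun g => QuotientGroup.congr _ _ (MulAut.conjNormal g) (key g)) ?_,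
    fun g h => rfl⟩
  intro a b
  ext x
  induction x using QuotientGroup.induction_on with
  | H x =>
    change (QuotientGroup.mk (MulAut.conjNormal (a * b) x) : H ⧸ K.subgroupOf H) =
      QuotientGroup.mk (MulAut.conjNormal a (MulAut.conjNormal b x))
    rw [map_mul]
    rfl

variable [Finite G]

/-- A pair of independent commuting elements of order `l` acting on a nilpotent normal
subgroup. -/
theorem adj_of_pair {K : Subgroup G} [K.Normal] (hK : Group.IsNilpotent K) {l s : ℕ}
    (hl : l.Prime) (hs : s.Prime) (hsl : s ≠ l) (hd : s ∣ Nat.card K) {a b : G}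
    (hab : Commute a b) (ha : orderOf a = l) (hb : orderOf b = l) (hn : b ∉ zpowers a) :
    Adj G l s := by
  have := Fact.mk hs
  have := Fact.mk hl
  obtain ⟨P⟩ : Nonempty (Sylow s K) := inferInstance
  have hPn : (P : Subgroup K).Normal :=
    inferInstance
  have := P.characteristic_of_normal hPn
  have hQn : ((P : Subgroup K).map K.subtype).Normal := inferInstance
  have hQ : IsPGroup s ((P : Subgroup K).map K.subtype) := P.isPGroup'.map _
  have hQ1 : (P : Subgroup K).map K.subtype ≠ ⊥ := fun h =>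
    P.ne_bot_of_dvd_card hd ((map_eq_bot_iff_of_injective _ K.subtype_injective).1 h)
  have hcomm : ∀ x ∈ ({a, b} : Set G), ∀ y ∈ ({a, b} : Set G), x * y = y * x := by
    rintro x (rfl | rfl) y (rfl | rfl)
    exacts [rfl, hab, hab.symm, rfl]
  have hE : IsMulCommutative (closure ({a, b} : Set G)) := isMulCommutative_closure hcomm
  have hpow : ∀ x ∈ closure ({a, b} : Set G), x ^ l = 1 := by
    intro x hx
    induction hx using closure_induction with
    | mem x hx =>
      rcases hx with rfl | rfl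
      · rw [← ha, pow_orderOf_eq_one]
      · rw [← hb, pow_orderOf_eq_one]
    | one => simp
    | mul x y hx hy h1 h2 =>
      have : Commute x y := congrArg Subtype.val (hE.is_comm.comm (⟨x, hx⟩ : Subgroup.closure _) ⟨y, hy⟩)
      rw [this.mul_pow, h1, h2, one_mul]
    | inv x hx h1 => rw [inv_pow, h1, inv_one]
  have haE : zpowers a ≤ closure ({a, b} : Set G) := zpowers_le.2 (subset_closure (by simp))
  have hnc : ¬ IsCyclic (closure ({a, b} : Set G)) := fun hc => by
    have h1 : Nat.card (closure ({a, b} : Set G)) ∣ l := by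
      rw [← IsCyclic.exponent_eq_card]
      exact Monoid.exponent_dvd_of_forall_pow_eq_one fun x => Subtype.ext (hpow x x.2)
    have h2 := eq_of_le_of_card_ge haE (by rw [Nat.card_zpowers, ha]; exact Nat.le_of_dvd hl.pos h1)
    exact hn (h2 ▸ subset_closure (by simp))
  have hEp : IsPGroup l (closure ({a, b} : Set G)) := fun x =>
    ⟨1, Subtype.ext (by simpa using hpow x x.2)⟩
  obtain ⟨c, hc, c1, h⟩ := Solv.Coprime.exists_inf_centralizer_singleton_ne_bot hnc
    (K := (P : Subgroup K).map K.subtype) le_normalizer_of_normal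
    (IsPGroup.coprime_card_of_ne l s hsl.symm _ _ hEp hQ) hQ1
  obtain ⟨⟨x, hx⟩, x1⟩ := (ne_bot_iff_exists_ne_one).1 h
  have x1' : x ≠ 1 := fun e => x1 (Subtype.ext e)
  have hco : orderOf c = l := orderOf_eq_prime (hpow c hc) c1
  obtain ⟨k, hk⟩ := (IsPGroup.iff_orderOf.1 hQ) ⟨x, hx.1⟩
  rw [← orderOf_coe] at hk
  have hk' : orderOf x = s ^ k := hk
  have hk0 : k ≠ 0 := by
    rintro rfl
    exact x1' (orderOf_eq_one_iff.1 (by simpa using hk'))
  have hcx : Commute c x := mem_centralizer_iff.1 hx.2 c rfl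
  refine adj_of_dvd (g := c * x) ?_
  rw [hcx.orderOf_mul_eq_mul_orderOf_of_coprime
    (by rw [hco, hk']; exact ((Nat.coprime_primes hl hs).2 hsl.symm).pow_right k), hco, hk']
  exact Nat.mul_dvd_mul_left l (dvd_pow_self s hk0)

/-- A non-abelian simple group of even order has non-cyclic Sylow 2-subgroups. -/
theorem not_isCyclic_sylow [IsSimpleGroup G] (hc : ¬ IsMulCommutative G) (h2 : 2 ∣ Nat.card G)
    (P : Sylow 2 G) : ¬ IsCyclic P := fun h => by
  have h1 := h.isComplement' ((Nat.minFac_eq_two_iff _).2 h2)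
  rcases (MonoidHom.normal_ker (MonoidHom.transferSylow P (h.normalizer_le_centralizer
    ((Nat.minFac_eq_two_iff _).2 h2)))).eq_bot_or_eq_top with e | e
  · rw [e, isComplement'_bot_left] at h1
    have : IsCyclic G := isCyclic_of_surjective (P : Subgroup G).subtype fun x =>
      ⟨⟨x, h1 ▸ mem_top x⟩, rfl⟩
    exact hc IsCyclic.isMulCommutative
  · rw [e, isComplement'_top_left] at h1
    exact P.ne_bot_of_dvd_card h2 h1

/-- If `G / H` has non-cyclic Sylow 2-subgroups and `G` has no four-group, the Sylow 2-subgroups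
of `H` are cyclic. -/
theorem isCyclic_sylow {H : Subgroup G} [H.Normal] (hn : NCy 2 (G ⧸ H))
    (h : ∀ a b : G, Commute a b → orderOf a = 2 → orderOf b = 2 → b ∈ zpowers a)
    (R : Sylow 2 H) : IsCyclic R := by
  obtain ⟨T, hT⟩ := (R.isPGroup'.map H.subtype).exists_le_sylow
  have hnc := (ncy_iff_sylow (T.mapSurjective (QuotientGroup.mk'_surjective H))).1 hn
  have h' : ∀ a b : T, Commute a b → orderOf a = 2 → orderOf b = 2 → b = a := by
    intro a b hab ha hb
    have h1 := h a b (congrArg Subtype.val hab) ((orderOf_coe a).trans ha) ((orderOf_coe b).trans hb)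
    obtain ⟨k, hk⟩ := mem_zpowers_iff.1 h1
    have hk' : a ^ k = b := Subtype.ext hk
    have a2 : a ^ (2 : ℤ) = 1 := by rw [zpow_ofNat]; exact orderOf_dvd_iff_pow_eq_one.1 ha.dvd
    rcases Int.even_or_odd' k with ⟨j, rfl | rfl⟩
    · rw [zpow_mul, a2, one_zpow] at hk'
      simp [← hk'] at hb
    · rw [zpow_add, zpow_mul, a2, one_zpow, one_mul, zpow_one] at hk'
      exact hk'.symm
  have hu : ∀ x y : T, orderOf x = 2 → orderOf y = 2 → x = y := by
    intro x y hx hy
    have : Nontrivial T := ⟨x, 1, fun e => by simp [e] at hx⟩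
    have := T.isPGroup'.center_nontrivial
    obtain ⟨z, hz⟩ := exists_prime_orderOf_dvd_card' (G := center T) 2 (by
      obtain ⟨n, hn0, hn⟩ := (T.isPGroup'.to_subgroup (center T)).nontrivial_iff_card.1 this
      exact hn ▸ dvd_pow_self 2 hn0.ne')
    rw [← orderOf_coe] at hz
    exact (h' z x (mem_center_iff.1 z.2 x).symm hz hx).trans
      (h' z y (mem_center_iff.1 z.2 y).symm hz hy).symm
  let φ : T →* (T.mapSurjective (QuotientGroup.mk'_surjective H) : Subgroup (G ⧸ H)) :=
    (QuotientGroup.mk' H).subgroupMap T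
  have hφ : Function.Surjective φ := MonoidHom.subgroupMap_surjective _ _
  rcases Solv.PG.isCyclic_or_exists_gens_of_unique_involution T.isPGroup' hu with
    hc | ⟨a, x, n, -, ha, -, -, hcard, -⟩
  · exact (hnc (isCyclic_of_surjective φ hφ)).elim
  have hi : (zpowers a).index = 2 := by
    have h1 := (zpowers a).card_mul_index
    rw [Nat.card_zpowers, ha, hcard, pow_succ] at h1
    exact Nat.eq_of_mul_eq_mul_left (by positivity) h1
  have hle : ∀ w : T, (w : G) ∈ H → w ∈ zpowers a := by
    intro w hw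
    by_contra hwa
    refine hnc (isCyclic_iff_exists_zpowers_eq_top.2 ⟨φ a, eq_top_iff.2 fun y _ => ?_⟩)
    obtain ⟨t, rfl⟩ := hφ y
    by_cases ht : t ∈ zpowers a
    · exact (MonoidHom.map_zpowers φ a) ▸ mem_map_of_mem φ ht
    · have h1 : t * w ∈ zpowers a := (mul_mem_iff_of_index_two hi).2 (iff_of_false ht hwa)
      have h2 : φ w = 1 := Subtype.ext ((QuotientGroup.eq_one_iff _).2 hw)
      have h3 := mem_map_of_mem φ h1
      rwa [map_mul, h2, mul_one, MonoidHom.map_zpowers] at h3
  have h1 : (R : Subgroup H).map H.subtype ≤ zpowers (a : G) := fun y hy => by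
    obtain ⟨k, hk⟩ := mem_zpowers_iff.1 (hle ⟨y, hT hy⟩ (map_subtype_le _ hy))
    exact mem_zpowers_iff.2 ⟨k, congrArg Subtype.val hk⟩
  have h2 : IsCyclic ((R : Subgroup H).map H.subtype) := isCyclic_of_le h1
  exact ((R : Subgroup H).equivMapOfInjective _ H.subtype_injective).isCyclic.2 h2

end Red

theorem red2 {G : Type*} [Group G] [Finite G] (K H : Subgroup G) [K.Normal] [H.Normal]
    (hKH : K ≤ H) (hK : Group.IsNilpotent K) [IsSimpleGroup (H ⧸ K.subgroupOf H)]
    (hc : ¬ IsMulCommutative (H ⧸ K.subgroupOf H)) (h2 : 2 ∣ Nat.card (H ⧸ K.subgroupOf H))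
    (hC : centralizer ((H.map (QuotientGroup.mk' K) : Subgroup (G ⧸ K)) : Set (G ⧸ K)) = ⊥)
    (hn : ¬ IsCyclic (G ⧸ H))
    (h : ∀ A : Subgroup (MulAut (H ⧸ K.subgroupOf H)), Inn _ ≤ A → ¬ IsCyclic (bar A) → Dom A) :
    ∃ r : ℕ, r.Prime ∧ r ∣ Nat.card (G ⧸ H) ∧
      ∀ s : ℕ, s.Prime → s ∣ Nat.card G → s ≠ r → ∃ g : G, orderOf g = r * s := by
  obtain ⟨α, hα⟩ := Red.exists_act K H
  have hker : α.ker ≤ K := fun g hg => by
    have h1 : (QuotientGroup.mk g : G ⧸ K) ∈
        centralizer ((H.map (QuotientGroup.mk' K) : Subgroup (G ⧸ K)) : Set (G ⧸ K)) := by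
      rintro _ ⟨x, hx, rfl⟩
      have h2 := hα g ⟨x, hx⟩
      rw [MonoidHom.mem_ker.1 hg, MulAut.one_apply, QuotientGroup.eq] at h2
      have h3 : (QuotientGroup.mk x : G ⧸ K) = QuotientGroup.mk (g * x * g⁻¹) :=
        QuotientGroup.eq.2 h2
      rw [QuotientGroup.mk_mul, QuotientGroup.mk_mul, QuotientGroup.mk_inv,
        eq_mul_inv_iff_mul_eq] at h3
      exact h3
    rw [hC, mem_bot] at h1
    exact (QuotientGroup.eq_one_iff g).1 h1
  have hin : ∀ x : H, α x = MulAut.conj (QuotientGroup.mk x : H ⧸ K.subgroupOf H) := fun x => by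
    ext y
    induction y using QuotientGroup.induction_on with
    | H y => rw [hα]; rfl
  have hA : Inn _ ≤ α.range := by
    rintro _ ⟨y, rfl⟩
    induction y using QuotientGroup.induction_on with
    | H y => exact ⟨y, hin y⟩
  have hβ : H = ((QuotientGroup.mk' (Inn (H ⧸ K.subgroupOf H))).comp α).ker := by
    ext g
    rw [MonoidHom.mem_ker, MonoidHom.comp_apply, QuotientGroup.mk'_apply, QuotientGroup.eq_one_iff]
    constructor
    · intro hg
      exact ⟨_, (hin ⟨g, hg⟩).symm⟩
    · rintro ⟨y, hy⟩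
      induction y using QuotientGroup.induction_on with
      | H y =>
        have h1 : (y : G)⁻¹ * g ∈ α.ker := by
          rw [MonoidHom.mem_ker, map_mul, map_inv, hin, hy, inv_mul_cancel]
        exact (mul_mem_cancel_left (inv_mem y.2)).1 (hKH (hker h1))
  let e : G ⧸ H ≃* bar α.range := ((QuotientGroup.quotientMulEquivOfEq hβ).trans
    (QuotientGroup.quotientKerEquivRange _)).trans
      (MulEquiv.subgroupCongr (MonoidHom.range_comp _ _))
  obtain ⟨l, hl, hd, hcy, hadj⟩ := h α.range hA fun hc => hn (e.isCyclic.2 hc)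
  refine ⟨l, hl, Nat.card_congr e.toEquiv ▸ hd, fun s hs hsd hsl => ?_⟩
  rw [← α.ker.card_mul_index, index_ker] at hsd
  rcases (Nat.Prime.dvd_mul hs).1 hsd with h1 | h1
  · have h1' : s ∣ Nat.card K := h1.trans (card_dvd_of_le hker)
    rcases hcy with ⟨l2, hcy⟩ | ⟨rfl, hcy⟩
    · obtain ⟨a, b, hab, ha, hb, hn⟩ :=
        (hcy.of_surj hl α.rangeRestrict α.rangeRestrict_surjective).exists_pair hl l2
      exact Red.adj_of_pair hK hl hs hsl h1' hab ha hb hn
    · by_cases h4 : ∀ a b : G, Commute a b → orderOf a = 2 → orderOf b = 2 → b ∈ zpowers a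
      · obtain ⟨R⟩ : Nonempty (Sylow 2 H) := inferInstance
        have := Red.isCyclic_sylow (hcy.of_inj e.symm.toMonoidHom e.symm.injective) h4 R
        exact (Red.not_isCyclic_sylow hc h2
          (R.mapSurjective (QuotientGroup.mk'_surjective (K.subgroupOf H)))
          (isCyclic_of_surjective _ (MonoidHom.subgroupMap_surjective _ _))).elim
      · push Not at h4
        obtain ⟨a, b, hab, ha, hb, hn⟩ := h4
        exact Red.adj_of_pair hK hl hs hsl h1' hab ha hb hn
  · exact (hadj s hs h1 hsl).of_surj α.rangeRestrict α.rangeRestrict_surjective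

end Cfsg.Lib.LieP
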